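import Groth.Prelude.Def_GrLC
import Groth.Agent.FiltRees.Quot
import Groth.Agent.SerreReg.Regular
import Mathlib.Algebra.DualNumber
import Mathlib.RingTheory.GradedAlgebra.Basic

/-!
# A graded regular ring modulo `t - 1` for a homogeneous unit of least degree
-/

noncomputable section

set_option backward.isDefEq.respectTransparency false
set_option backward.isDefEq.respectTransparency.types false
set_option linter.style.haveILetI false

universe u

open IsLocalRing DirectSum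

namespace Groth.Agent.GrUnit

variable {R : Type u} [CommRing R] (𝒜 : ℤ → AddSubgroup R) [GradedRing 𝒜]

theorem inv_mem {g : ℤ} {z : Rˣ} (hz : (z : R) ∈ 𝒜 g) : ((z⁻¹ : Rˣ) : R) ∈ 𝒜 (-g) := by
  have h := coe_decompose_mul_add_of_left_mem 𝒜 (j := -g) (b := ((z⁻¹ : Rˣ) : R)) hz
  rw [add_neg_cancel, Units.mul_inv, decompose_of_mem_same 𝒜 (SetLike.GradedOne.one_mem)] at h
  rw [Units.inv_eq_of_mul_eq_one_right h.symm]
  exact SetLike.coe_mem _

theorem zpow_mem {g : ℤ} {z : Rˣ} (hz : (z : R) ∈ 𝒜 g) (k : ℤ) : ((z ^ k : Rˣ) : R) ∈ 𝒜 (k * g) := by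
  induction k using Int.induction_on with
  | zero => simpa using SetLike.GradedOne.one_mem
  | succ i ih =>
    rw [zpow_add_one, Units.val_mul, add_mul, one_mul]
    exact SetLike.mul_mem_graded ih hz
  | pred i ih =>
    rw [zpow_sub_one, Units.val_mul, sub_mul, one_mul, sub_eq_add_neg]
    exact SetLike.mul_mem_graded ih (inv_mem 𝒜 hz)

variable {N : ℕ} {z : Rˣ} (hz : (z : R) ∈ 𝒜 (N : ℤ))

/-- The degree zero part attached to an element of degree a multiple of `N`. -/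
def slide (i : ℤ) (h : (N : ℤ) ∣ i) (a : 𝒜 i) : GrLC.deg0 𝒜 :=
  ⟨(a : R) * ((z ^ (-(i / N)) : Rˣ) : R), by
    have := SetLike.mul_mem_graded a.2 (zpow_mem 𝒜 hz (-(i / N)))
    rwa [neg_mul, Int.ediv_mul_cancel h, add_neg_cancel] at this⟩

theorem slide_coe (i : ℤ) (h : (N : ℤ) ∣ i) (a : 𝒜 i) :
    (slide 𝒜 hz i h a : R) = (a : R) * ((z ^ (-(i / N)) : Rˣ) : R) := rfl

variable (hN : 0 < N) (hmin : ∀ (n : ℤ), 0 < n → n < (N : ℤ) → ∀ s ∈ 𝒜 n, ¬ IsUnit s)

include hz hN hmin in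
theorem dvd_of_isUnit {i : ℤ} {a : R} (ha : a ∈ 𝒜 i) (hu : IsUnit a) : (N : ℤ) ∣ i := by
  by_contra h
  have hpos : 0 < i % N := lt_of_le_of_ne (Int.emod_nonneg _ (by omega)) fun e => h (Int.dvd_of_emod_eq_zero e.symm)
  refine hmin _ hpos (Int.emod_lt_of_pos _ (by omega)) _ ?_ (hu.mul (z ^ (-(i / N))).isUnit)
  have := SetLike.mul_mem_graded ha (zpow_mem 𝒜 hz (-(i / N)))
  rwa [show i + -(i / N) * (N : ℤ) = i % N by rw [Int.emod_def]; ring] at this

variable [IsLocalRing (GrLC.deg0 𝒜)]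



/-- The components of the first order jet at the point `z = 1` over the closed point of `R_0`. -/
def jetComp (i : ℤ) : 𝒜 i →+ DualNumber (ResidueField (GrLC.deg0 𝒜)) :=
  if h : (N : ℤ) ∣ i then
    AddMonoidHom.mk' (fun a => TrivSqZeroExt.inl (residue _ (slide 𝒜 hz i h a)) +
        TrivSqZeroExt.inr ((i / N : ℤ) * residue _ (slide 𝒜 hz i h a))) (fun a b => by
      rw [show slide 𝒜 hz i h (a + b) = slide 𝒜 hz i h a + slide 𝒜 hz i h b from Subtype.ext (by
        simp only [slide_coe, AddSubgroup.coe_add, Subring.coe_add, add_mul]),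
        map_add, mul_add, TrivSqZeroExt.inl_add, TrivSqZeroExt.inr_add]
      abel)
  else 0

include hN hmin in
theorem jetComp_mul {i j : ℤ} (a : 𝒜 i) (b : 𝒜 j) :
    jetComp 𝒜 hz (i + j) ⟨(a : R) * b, SetLike.mul_mem_graded a.2 b.2⟩ = jetComp 𝒜 hz i a * jetComp 𝒜 hz j b := by
  have hN' : (N : ℤ) ≠ 0 := by omega
  by_cases hi : (N : ℤ) ∣ i <;> by_cases hj : (N : ℤ) ∣ j
  · have hij := Int.dvd_add hi hj
    simp only [jetComp, dif_pos hi, dif_pos hj, dif_pos hij, AddMonoidHom.mk'_apply]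
    have he : slide 𝒜 hz (i + j) hij ⟨(a : R) * b, SetLike.mul_mem_graded a.2 b.2⟩ =
        slide 𝒜 hz i hi a * slide 𝒜 hz j hj b := Subtype.ext (by
      rw [Subring.coe_mul, slide_coe, slide_coe, slide_coe, Int.add_ediv_of_dvd_left hi, neg_add, zpow_add, Units.val_mul]
      ring)
    rw [he, map_mul, Int.add_ediv_of_dvd_left hi]
    ext <;> simp [TrivSqZeroExt.fst_mul, TrivSqZeroExt.snd_mul] <;> ring
  · simp only [jetComp, dif_pos hi, dif_neg hj,
      dif_neg (show ¬ (N : ℤ) ∣ i + j from fun h => hj ((Int.dvd_add_right hi).1 h)), AddMonoidHom.zero_apply, mul_zero]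
  · simp only [jetComp, dif_neg hi, dif_pos hj,
      dif_neg (show ¬ (N : ℤ) ∣ i + j from fun h => hi ((Int.dvd_add_left hj).1 h)), AddMonoidHom.zero_apply, zero_mul]
  · simp only [jetComp, dif_neg hi, AddMonoidHom.zero_apply, zero_mul]
    split_ifs with h
    · rw [AddMonoidHom.mk'_apply, (residue_eq_zero_iff _).2 ?_, mul_zero, TrivSqZeroExt.inl_zero,
        TrivSqZeroExt.inr_zero, add_zero]
      rw [mem_maximalIdeal, mem_nonunits_iff]
      intro hu
      refine hi (dvd_of_isUnit 𝒜 hz hN hmin a.2 ?_)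
      have := hu.map (GrLC.deg0 𝒜).subtype
      rw [show (GrLC.deg0 𝒜).subtype (slide 𝒜 hz (i + j) h ⟨(a : R) * b, _⟩) =
        (a : R) * ((b : R) * ((z ^ (-((i + j) / N)) : Rˣ) : R)) from mul_assoc _ _ _] at this
      exact isUnit_of_mul_isUnit_left this
    · rfl

theorem jetComp_one : jetComp 𝒜 hz 0 ⟨1, SetLike.GradedOne.one_mem⟩ = 1 := by
  simp only [jetComp, dif_pos (dvd_zero (N : ℤ)), AddMonoidHom.mk'_apply]
  rw [show slide 𝒜 hz 0 (dvd_zero _) ⟨1, SetLike.GradedOne.one_mem⟩ = 1 from Subtype.ext (by simp [slide_coe])]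
  simp

/-- The first order jet. -/
def jet : R →+* DualNumber (ResidueField (GrLC.deg0 𝒜)) :=
  (DirectSum.toSemiring (jetComp 𝒜 hz) (jetComp_one 𝒜 hz) (fun a b => jetComp_mul 𝒜 hz hN hmin a b)).comp
    (DirectSum.decomposeRingEquiv 𝒜).toRingHom

theorem jet_of_mem {i : ℤ} {a : R} (ha : a ∈ 𝒜 i) : jet 𝒜 hz hN hmin a = jetComp 𝒜 hz i ⟨a, ha⟩ := by
  show DirectSum.toSemiring (jetComp 𝒜 hz) (jetComp_one 𝒜 hz) (fun a b => jetComp_mul 𝒜 hz hN hmin a b)
    (decompose 𝒜 a) = _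
  rw [decompose_of_mem 𝒜 ha, DirectSum.toSemiring_of]

theorem jet_z : jet 𝒜 hz hN hmin (z : R) = 1 + DualNumber.eps := by
  rw [jet_of_mem 𝒜 hz hN hmin hz]
  simp only [jetComp, dif_pos (dvd_refl (N : ℤ)), AddMonoidHom.mk'_apply]
  rw [show slide 𝒜 hz N (dvd_refl _) ⟨z, hz⟩ = 1 from Subtype.ext (by
    rw [slide_coe, Int.ediv_self (by omega)]; simp)]
  rw [map_one, Int.ediv_self (show (N : ℤ) ≠ 0 by omega), Int.cast_one, mul_one, TrivSqZeroExt.inl_one]
  rfl

/-- The closed point. -/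
def point : Ideal R := RingHom.ker ((TrivSqZeroExt.fstHom (ResidueField (GrLC.deg0 𝒜)) (ResidueField (GrLC.deg0 𝒜)) (ResidueField (GrLC.deg0 𝒜))).toRingHom.comp (jet 𝒜 hz hN hmin))

theorem point_isPrime : (point 𝒜 hz hN hmin).IsPrime := RingHom.ker_isPrime _

theorem mem_point {a : R} : a ∈ point 𝒜 hz hN hmin ↔ (jet 𝒜 hz hN hmin a).fst = 0 := Iff.rfl

theorem z_sub_one_mem : (z : R) - 1 ∈ point 𝒜 hz hN hmin := by
  rw [mem_point, map_sub, map_one, jet_z]; simp

/-- `t - 1` is not in the square of the maximal ideal at the closed point. -/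
theorem notMem_sq [(point 𝒜 hz hN hmin).IsPrime] :
    algebraMap R (Localization.AtPrime (point 𝒜 hz hN hmin)) ((z : R) - 1) ∉
      maximalIdeal (Localization.AtPrime (point 𝒜 hz hN hmin)) ^ 2 := by
  intro h
  have hu : ∀ y : (point 𝒜 hz hN hmin).primeCompl, IsUnit (jet 𝒜 hz hN hmin y) := fun y =>
    TrivSqZeroExt.isUnit_iff_isUnit_fst.2 (isUnit_iff_ne_zero.2 y.2)
  let g : Localization.AtPrime (point 𝒜 hz hN hmin) →+* DualNumber (ResidueField (GrLC.deg0 𝒜)) := IsLocalization.lift hu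
  have hg : ∀ a, g (algebraMap R _ a) = jet 𝒜 hz hN hmin a := IsLocalization.lift_eq hu
  have hmap : (maximalIdeal (Localization.AtPrime (point 𝒜 hz hN hmin))).map g ≤ Ideal.span {DualNumber.eps} := by
    rw [← Localization.AtPrime.map_eq_maximalIdeal, Ideal.map_map, Ideal.map_le_iff_le_comap]
    intro a ha
    rw [Ideal.mem_comap, RingHom.comp_apply, hg]
    refine Ideal.mem_span_singleton'.2 ⟨TrivSqZeroExt.inl (jet 𝒜 hz hN hmin a).snd, ?_⟩
    ext <;> simp [(mem_point 𝒜 hz hN hmin).1 ha]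
  have h2 : g (algebraMap R _ ((z : R) - 1)) ∈ Ideal.span {DualNumber.eps (R := ResidueField (GrLC.deg0 𝒜))} ^ 2 := by
    refine Ideal.pow_right_mono hmap 2 ?_
    rw [← Ideal.map_pow]
    exact Ideal.mem_map_of_mem g h
  rw [Ideal.span_singleton_pow, pow_two, DualNumber.eps_mul_eps, Ideal.mem_span_singleton, zero_dvd_iff, hg,
    map_sub, map_one, jet_z, add_sub_cancel_left] at h2
  simpa using congrArg TrivSqZeroExt.snd h2

/-- Every maximal ideal through `t = 1` is the closed point. -/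
theorem eq_point (Q : Ideal R) [Q.IsMaximal] (hQ : (z : R) - 1 ∈ Q) : Q = point 𝒜 hz hN hmin := by
  let π := Ideal.Quotient.mk Q
  have hpz : π (z : R) = 1 := by
    rw [← map_one π, Ideal.Quotient.eq]; exact hQ
  have hzp : ∀ k : ℤ, π ((z ^ k : Rˣ) : R) = 1 := fun k => by
    have : Units.map π.toMonoidHom z = 1 := Units.ext hpz
    have h := congrArg Units.val (map_zpow (Units.map π.toMonoidHom) z k)
    rw [this, one_zpow] at h
    exact h
  let f : GrLC.deg0 𝒜 →+* R ⧸ Q := π.comp (GrLC.deg0 𝒜).subtype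
  have hint : f.IsIntegral := fun x => by
    obtain ⟨a, rfl⟩ := Ideal.Quotient.mk_surjective x
    classical
    rw [← DirectSum.sum_support_decompose 𝒜 a, map_sum]
    refine Finset.sum_induction _ f.IsIntegralElem (fun p q => RingHom.IsIntegralElem.add f) (RingHom.isIntegralElem_zero f) fun i _ => ?_
    letI := f.toAlgebra
    refine IsIntegral.of_pow hN (?_ : IsIntegral (GrLC.deg0 𝒜) _)
    have hd : (N : ℤ) ∣ (N : ℤ) * i := Dvd.intro _ rfl
    have hm : ((decompose 𝒜 a) i : R) ^ N ∈ 𝒜 ((N : ℤ) * i) := by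
      simpa using SetLike.pow_mem_graded N ((decompose 𝒜 a) i).2
    rw [show π ((decompose 𝒜 a) i : R) ^ N = algebraMap (GrLC.deg0 𝒜) (R ⧸ Q) (slide 𝒜 hz _ hd ⟨_, hm⟩) from ?_]
    · exact isIntegral_algebraMap
    · show _ = π ((slide 𝒜 hz _ hd ⟨_, hm⟩ : GrLC.deg0 𝒜) : R)
      rw [slide_coe, map_mul, hzp, mul_one, map_pow]
  have hq : RingHom.ker f = maximalIdeal (GrLC.deg0 𝒜) := by
    letI := f.toAlgebra
    haveI : Algebra.IsIntegral (GrLC.deg0 𝒜) (R ⧸ Q) := ⟨hint⟩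
    haveI : (⊥ : Ideal (R ⧸ Q)).IsMaximal := by
      letI := Ideal.Quotient.field Q
      exact Ideal.bot_isMaximal
    have := Ideal.isMaximal_comap_of_isIntegral_of_isMaximal (R := GrLC.deg0 𝒜) (⊥ : Ideal (R ⧸ Q))
    rw [← eq_maximalIdeal this, ← RingHom.ker_eq_comap_bot]
    rfl
  haveI := point_isPrime 𝒜 hz hN hmin
  refine ((‹Q.IsMaximal›).eq_of_le (Ideal.IsPrime.ne_top inferInstance) ?_)
  have key : ∀ (i : ℤ) (a : 𝒜 i), (π (a : R) = 0 ∧ (jetComp 𝒜 hz i a).fst = 0) ∨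
      ∃ x : GrLC.deg0 𝒜, π (a : R) = f x ∧ (jetComp 𝒜 hz i a).fst = residue _ x := fun i a => by
    by_cases hi : (N : ℤ) ∣ i
    · refine Or.inr ⟨slide 𝒜 hz i hi a, ?_, by simp [jetComp, dif_pos hi]⟩
      show _ = π ((slide 𝒜 hz i hi a : GrLC.deg0 𝒜) : R)
      rw [slide_coe, map_mul, hzp, mul_one]
    · refine Or.inl ⟨?_, by simp [jetComp, dif_neg hi]⟩
      have hm : (a : R) ^ N ∈ 𝒜 ((N : ℤ) * i) := by simpa using SetLike.pow_mem_graded N a.2
      have hd : (N : ℤ) ∣ (N : ℤ) * i := Dvd.intro _ rfl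
      set x := slide 𝒜 hz _ hd ⟨_, hm⟩
      have hxm : x ∈ maximalIdeal (GrLC.deg0 𝒜) := by
        rw [mem_maximalIdeal, mem_nonunits_iff]
        intro hu
        refine hi (dvd_of_isUnit 𝒜 hz hN hmin a.2 ?_)
        have := hu.map (GrLC.deg0 𝒜).subtype
        exact (isUnit_pow_iff (show N ≠ 0 by omega)).1 (isUnit_of_mul_isUnit_left this)
      rw [← hq, RingHom.mem_ker] at hxm
      letI := Ideal.Quotient.field Q
      refine pow_eq_zero_iff (show N ≠ 0 by omega) |>.1 ?_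
      rw [← map_pow, ← hxm]
      show _ = π (x : R)
      rw [slide_coe, map_mul, hzp, mul_one]
  intro a ha
  classical
  have hsum : ∃ x : GrLC.deg0 𝒜, π a = f x ∧ (jet 𝒜 hz hN hmin a).fst = residue _ x := by
    rw [← DirectSum.sum_support_decompose 𝒜 a]
    refine Finset.sum_induction _ (fun w => ∃ x : GrLC.deg0 𝒜, π w = f x ∧ (jet 𝒜 hz hN hmin w).fst = residue _ x)
      (fun p q ⟨x, hx, hx'⟩ ⟨y, hy, hy'⟩ => ⟨x + y, by rw [map_add, map_add, hx, hy],
        by rw [map_add, TrivSqZeroExt.fst_add, map_add, hx', hy']⟩) ⟨0, by simp, by simp⟩ fun i _ => ?_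
    rw [jet_of_mem 𝒜 hz hN hmin ((decompose 𝒜 a) i).2]
    rcases key i ((decompose 𝒜 a) i) with ⟨h1, h2⟩ | h
    · exact ⟨0, by rw [h1, map_zero], by rw [h2, map_zero]⟩
    · exact h
  obtain ⟨x, hx, hx'⟩ := hsum
  rw [mem_point, hx', residue_eq_zero_iff, ← hq, RingHom.mem_ker, ← hx]
  exact Ideal.Quotient.eq_zero_iff_mem.2 ha

include hz hN hmin in
/-- The quotient by `t - 1` is a regular local ring. -/
theorem isRegularLocalRing_quot
    (hreg : ∀ (p : Ideal R) [p.IsPrime], IsRegularLocalRing (Localization.AtPrime p)) :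
    IsRegularLocalRing (R ⧸ Ideal.span {(z : R) - 1}) := by
  set x := (z : R) - 1
  let π := Ideal.Quotient.mk (Ideal.span {x})
  haveI := point_isPrime 𝒜 hz hN hmin
  have hne : Ideal.span {x} ≠ ⊤ := fun h => Ideal.IsPrime.ne_top (I := point 𝒜 hz hN hmin) inferInstance
    (top_le_iff.1 (h.ge.trans ((Ideal.span_singleton_le_iff_mem _).2 (z_sub_one_mem 𝒜 hz hN hmin))))
  haveI : Nontrivial (R ⧸ Ideal.span {x}) := Ideal.Quotient.nontrivial_iff.mpr hne
  have huniq : ∀ M : Ideal (R ⧸ Ideal.span {x}), M.IsMaximal → M.comap π = point 𝒜 hz hN hmin := fun M hM => by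
    haveI := hM
    haveI : (M.comap π).IsMaximal := Ideal.comap_isMaximal_of_surjective π Ideal.Quotient.mk_surjective
    refine eq_point 𝒜 hz hN hmin _ ?_
    rw [Ideal.mem_comap, show π x = 0 from Ideal.Quotient.eq_zero_iff_mem.2 (Ideal.mem_span_singleton_self x)]
    exact zero_mem _
  obtain ⟨M, hM⟩ := Ideal.exists_maximal (R ⧸ Ideal.span {x})
  haveI := hM
  haveI : IsLocalRing (R ⧸ Ideal.span {x}) := IsLocalRing.of_unique_max_ideal ⟨M, hM, fun M' hM' =>
    Ideal.comap_injective_of_surjective π Ideal.Quotient.mk_surjective ((huniq M' hM').trans (huniq M hM).symm)⟩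
  have hxP : algebraMap R (Localization.AtPrime (point 𝒜 hz hN hmin)) x ∈ maximalIdeal _ :=
    (IsLocalization.AtPrime.to_map_mem_maximal_iff _ (point 𝒜 hz hN hmin) x).2 (z_sub_one_mem 𝒜 hz hN hmin)
  haveI := hreg (point 𝒜 hz hN hmin)
  have h := (SerreReg.isRegularLocalRing_quot hxP (notMem_sq 𝒜 hz hN hmin)).1
  obtain ⟨e⟩ := FiltRees.exists_equiv x M
  have h' : ∀ (P : Ideal R) [P.IsPrime], P = point 𝒜 hz hN hmin →
      IsRegularLocalRing (Localization.AtPrime P ⧸ Ideal.span {algebraMap R (Localization.AtPrime P) x}) :=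
    fun P _ hP => by subst hP; exact h
  haveI := h' (M.comap π) (huniq M hM)
  haveI : IsRegularLocalRing (Localization.AtPrime M) := IsRegularLocalRing.of_ringEquiv e
  exact IsRegularLocalRing.of_ringEquiv (IsLocalization.atUnits (R ⧸ Ideal.span {x}) M.primeCompl
    (S := Localization.AtPrime M) fun y hy => by
      by_contra hu
      exact hy (eq_maximalIdeal hM ▸ (mem_maximalIdeal y).2 hu)).toRingEquiv.symm

end Groth.Agent.GrUnit
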