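import Groth.Agent.GrUnit.Basic
import Groth.Agent.GrGor.Core
import Groth.Agent.CotT.RegQuot
import Mathlib.RingTheory.RegularLocalRing.Polynomial
import Mathlib.RingTheory.AdjoinRoot

/-!
# Adjoining a root of a homogeneous unit
-/

noncomputable section

set_option backward.isDefEq.respectTransparency false
set_option backward.isDefEq.respectTransparency.types false
set_option linter.style.haveILetI false

universe u

open IsLocalRing DirectSum
open scoped LaurentPolynomial

namespace Groth.Agent.GrUnit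

/-- Laurent polynomials over a regular ring. -/
theorem isRegularRing_laurent (C : Type u) [CommRing C] [IsRegularRing C] : IsRegularRing C[T;T⁻¹] := by
  haveI : IsNoetherianRing C[T;T⁻¹] :=
    IsLocalization.isNoetherianRing (Submonoid.powers (Polynomial.X : Polynomial C)) _ inferInstance
  refine isRegularRing_iff.mpr fun Q _ => ?_
  haveI := IsLocalization.isLocalization_isLocalization_atPrime_isLocalization
    (Submonoid.powers (Polynomial.X : Polynomial C)) (Localization.AtPrime Q) Q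
  haveI := IsRegularRing.isRegularLocalRing_localization (R := Polynomial C) (Q.comap (algebraMap (Polynomial C) C[T;T⁻¹]))
  exact IsRegularLocalRing.of_ringEquiv
    (IsLocalization.algEquiv (Q.comap (algebraMap (Polynomial C) C[T;T⁻¹])).primeCompl
      (Localization.AtPrime (Q.comap (algebraMap (Polynomial C) C[T;T⁻¹]))) (Localization.AtPrime Q)).toRingEquiv

variable {R : Type u} [CommRing R] [IsNoetherianRing R] (𝒜 : ℤ → AddSubgroup R) [GradedRing 𝒜] {N : ℕ} {z : Rˣ}
  (hz : (z : R) ∈ 𝒜 (N : ℤ)) (hN : 0 < N)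

include hz hN in
theorem exists_equiv_laurent :
    Nonempty (AdjoinRoot (Polynomial.X ^ N - Polynomial.C (z : R)) ≃+* (R ⧸ Ideal.span {(z : R) - 1})[T;T⁻¹]) := by
  let f : Polynomial R := Polynomial.X ^ N - Polynomial.C (z : R)
  let mk := Ideal.Quotient.mk (Ideal.span {(z : R) - 1})
  have hs : (1 : ℤ) * 1 = 1 := one_mul _
  let c : R →+* (R ⧸ Ideal.span {(z : R) - 1})[T;T⁻¹] :=
    (AddMonoidAlgebra.mapRingHom ℤ mk).comp (GrGor.coact 𝒜 1 hs)
  have hc : ∀ {d : ℤ} {x : R}, x ∈ 𝒜 d → c x = AddMonoidAlgebra.single d (mk x) := fun {d x} hx => by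
    show AddMonoidAlgebra.mapRingHom ℤ mk (GrGor.coact 𝒜 1 hs x) = _
    rw [GrGor.coact_of_mem 𝒜 hx, one_mul, AddMonoidAlgebra.mapRingHom_single]
  have hmkz : mk (z : R) = 1 := by
    rw [← map_one mk, Ideal.Quotient.eq]; exact Ideal.mem_span_singleton_self _
  have hroot : f.eval₂ c (LaurentPolynomial.T 1) = 0 := by
    simp only [f, Polynomial.eval₂_sub, Polynomial.eval₂_X_pow, Polynomial.eval₂_C, hc hz, hmkz,
      LaurentPolynomial.T_pow, mul_one, sub_self]
    rw [LaurentPolynomial.T, sub_self]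
  let φ : AdjoinRoot f →+* (R ⧸ Ideal.span {(z : R) - 1})[T;T⁻¹] := AdjoinRoot.lift c _ hroot
  let ι : R →+* AdjoinRoot f := AdjoinRoot.of f
  have hrN : AdjoinRoot.root f ^ N = ι (z : R) := by
    have h := AdjoinRoot.eval₂_root f
    simp only [f, Polynomial.eval₂_sub, Polynomial.eval₂_X_pow, Polynomial.eval₂_C, sub_eq_zero] at h
    exact h
  have hU : IsUnit (AdjoinRoot.root f) := (isUnit_pow_iff hN.ne').1 (hrN ▸ z.isUnit.map ι)
  obtain ⟨U, hUr⟩ := hU
  let μ : R →+* (AdjoinRoot f)[T;T⁻¹] := (AddMonoidAlgebra.mapRingHom ℤ ι).comp (GrGor.coact 𝒜 1 hs)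
  let ψ₀ : R →+* AdjoinRoot f := (LaurentPolynomial.eval₂ (RingHom.id _) U⁻¹).comp μ
  have hψ₀ : ∀ {d : ℤ} {x : R}, x ∈ 𝒜 d → ψ₀ x = ι x * ((U⁻¹ ^ d : (AdjoinRoot f)ˣ) : AdjoinRoot f) :=
    fun {d x} hx => by
      show LaurentPolynomial.eval₂ _ _ (AddMonoidAlgebra.mapRingHom ℤ ι (GrGor.coact 𝒜 1 hs x)) = _
      rw [GrGor.coact_of_mem 𝒜 hx, one_mul, AddMonoidAlgebra.mapRingHom_single,
        LaurentPolynomial.single_eq_C_mul_T, map_mul, LaurentPolynomial.eval₂_C, LaurentPolynomial.eval₂_T]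
      rfl
  have hψz : ψ₀ ((z : R) - 1) = 0 := by
    rw [map_sub, map_one, hψ₀ hz, ← hrN, ← hUr, zpow_natCast, ← Units.val_pow_eq_pow_val, ← Units.val_mul,
      inv_pow, mul_inv_cancel, Units.val_one, sub_self]
  let ψC : (R ⧸ Ideal.span {(z : R) - 1}) →+* AdjoinRoot f := Ideal.Quotient.lift _ ψ₀ fun a ha => by
    obtain ⟨b, rfl⟩ := Ideal.mem_span_singleton'.1 ha
    rw [map_mul, hψz, mul_zero]
  let ψ := LaurentPolynomial.eval₂ ψC U
  have hψT : ∀ n : ℤ, ψ (LaurentPolynomial.T n) = ((U ^ n : (AdjoinRoot f)ˣ) : AdjoinRoot f) :=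
    LaurentPolynomial.eval₂_T ψC U
  have hψC : ∀ x : R, ψ (LaurentPolynomial.C (mk x)) = ψ₀ x := fun x =>
    (LaurentPolynomial.eval₂_C ψC U (mk x)).trans (Ideal.Quotient.lift_mk _ _ _)
  have hφr : φ (AdjoinRoot.root f) = LaurentPolynomial.T 1 := AdjoinRoot.lift_root hroot
  have hφι : ∀ x, φ (ι x) = c x := fun x => AdjoinRoot.lift_of hroot
  have h1 : ψ.comp φ = RingHom.id _ := by
    refine AdjoinRoot.ringHom_ext (RingHom.ext fun x => ?_) ?_
    · show ψ (φ (ι x)) = ι x
      rw [hφι]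
      induction x using DirectSum.Decomposition.inductionOn 𝒜 with
      | zero => simp
      | @homogeneous d x =>
        rw [hc x.2, LaurentPolynomial.single_eq_C_mul_T, map_mul, hψC, hψT, hψ₀ x.2, mul_assoc, ← Units.val_mul,
          inv_zpow, inv_mul_cancel, Units.val_one, mul_one]
      | add a b ha hb => simp only [map_add, ha, hb]
    · show ψ (φ (AdjoinRoot.root f)) = AdjoinRoot.root f
      rw [hφr, hψT, zpow_one, hUr]
  have hφU : ∀ n : ℤ, φ ((U ^ n : (AdjoinRoot f)ˣ) : AdjoinRoot f) = LaurentPolynomial.T n := by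
    intro n
    have hu : IsUnit (LaurentPolynomial.T n : (R ⧸ Ideal.span {(z : R) - 1})[T;T⁻¹]) := LaurentPolynomial.isUnit_T n
    induction n using Int.induction_on with
    | zero => simp
    | succ i ih =>
      rw [zpow_add_one, Units.val_mul, map_mul, ih (LaurentPolynomial.isUnit_T _), hUr, hφr, ← LaurentPolynomial.T_add]
    | pred i ih =>
      rw [zpow_sub_one, Units.val_mul, map_mul, ih (LaurentPolynomial.isUnit_T _)]
      have h2 : φ ((U⁻¹ : (AdjoinRoot f)ˣ) : AdjoinRoot f) = LaurentPolynomial.T (-1) := by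
        have := congrArg φ (Units.inv_mul U)
        rw [map_mul, map_one, hUr, hφr] at this
        rw [← mul_one (φ _), ← LaurentPolynomial.T_zero, show (0 : ℤ) = 1 + -1 by norm_num, LaurentPolynomial.T_add,
          ← mul_assoc, this, one_mul]
      rw [h2, ← LaurentPolynomial.T_add]
      congr 1
  have h2 : φ.comp ψ = RingHom.id _ := by
    refine AddMonoidAlgebra.ringHom_ext (fun q => ?_) (fun n => ?_)
    · obtain ⟨x, rfl⟩ := Ideal.Quotient.mk_surjective q
      show φ (ψ (LaurentPolynomial.C (mk x))) = LaurentPolynomial.C (mk x)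
      rw [hψC]
      induction x using DirectSum.Decomposition.inductionOn 𝒜 with
      | zero => simp
      | @homogeneous d x =>
        rw [hψ₀ x.2, map_mul, hφι, hc x.2, inv_zpow', hφU, LaurentPolynomial.single_eq_C_mul_T, mul_assoc,
          ← LaurentPolynomial.T_add, add_neg_cancel, LaurentPolynomial.T_zero, mul_one]
      | add a b ha hb => simp only [map_add, ha, hb]
    · show φ (ψ (LaurentPolynomial.T n)) = LaurentPolynomial.T n
      rw [hψT, hφU]
  exact ⟨RingEquiv.ofRingHom φ ψ h2 h1⟩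

/-- Adjoining an `N`-th root of `z` to a regular ring keeps it regular. -/
theorem isRegularLocalRing_adjoinRoot (hreg : ∀ (p : Ideal R) [p.IsPrime], IsRegularLocalRing (Localization.AtPrime p))
    [IsLocalRing (GrLC.deg0 𝒜)]
    (hm : ∀ (i j : ℤ), 0 < i → 0 < j → i + j = (N : ℤ) → ∀ a ∈ 𝒜 i, ∀ b ∈ 𝒜 j,
      ∃ c : GrLC.deg0 𝒜, c ∈ maximalIdeal (GrLC.deg0 𝒜) ∧ a * b = (c : R) * (z : R))
    (hz : (z : R) ∈ 𝒜 (N : ℤ)) (hN : 0 < N)
    (q : Ideal (AdjoinRoot (Polynomial.X ^ N - Polynomial.C (z : R)))) [q.IsPrime] :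
    IsRegularLocalRing (Localization.AtPrime q) := by
  have hmin : ∀ (n : ℤ), 0 < n → n < (N : ℤ) → ∀ s ∈ 𝒜 n, ¬ IsUnit s := by
    intro n hn hnN s hs hu
    obtain ⟨u, rfl⟩ := hu
    have hb : ((u⁻¹ : Rˣ) : R) * z ∈ 𝒜 ((N : ℤ) - n) := by
      have := SetLike.mul_mem_graded (inv_mem 𝒜 hs) hz
      rwa [neg_add_eq_sub] at this
    obtain ⟨c, hc, he⟩ := hm n (N - n) hn (by omega) (by ring) _ hs _ hb
    rw [← mul_assoc, Units.mul_inv, one_mul] at he
    have hc1 : c = 1 := Subtype.ext (z.isUnit.mul_right_cancel (by rw [← he, OneMemClass.coe_one, one_mul]))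
    exact (maximalIdeal.isMaximal _).ne_top ((Ideal.eq_top_iff_one _).2 (hc1 ▸ hc))
  haveI := isRegularLocalRing_quot 𝒜 hz hN hmin hreg
  haveI := CotT.isRegularRing_of_local (R ⧸ Ideal.span {(z : R) - 1})
  haveI := isRegularRing_laurent (R ⧸ Ideal.span {(z : R) - 1})
  obtain ⟨e⟩ := exists_equiv_laurent 𝒜 hz hN
  haveI := IsRegularRing.of_ringEquiv e.symm
  exact IsRegularRing.isRegularLocalRing_localization q

end Groth.Agent.GrUnit
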